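import Cfsg.Agent.H6.TCU22.D0
set_option maxRecDepth 100000
namespace H6.TCU22
open H0
noncomputable def tS : Tr := (.node (.node (.node s0 s1) (.node s2 s3)) (.node (.node s4 s5) (.node s6 s7)))
noncomputable def tJ : Tr := (.node (.node (.node j0 j1) (.node j2 j3)) (.node (.node j4 j5) (.node j6 j7)))
noncomputable def tQ : Tr := (.node (.node (.node q0 q1) (.node q2 q3)) (.node (.node q4 q5) (.node q6 q7)))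
noncomputable def tR : TC.WTr := (.node (.node (.node r0 (.node (.node (.node (.node (.node (.leaf [3, 0, 3] 12 0 false) (.leaf [0, 5, 0] 14 1 false)) (.node (.leaf [2] 2 0 false) (.leaf [3, 7, 8, 9, 1, 9, 8, 7, 3, 7, 8, 9, 1, 9, 8, 7, 3, 7, 8, 9, 1, 9, 8] 58 3 false))) (.node (.node (.leaf [9, 5, 4, 3, 2, 3, 4, 5, 9, 1, 9, 5, 4, 3, 2, 3, 4, 5, 9] 60 0 false) (.leaf [7, 6, 7] 49 0 false)) (.node (.leaf [2, 3, 4, 7, 3, 8, 7, 9, 5, 8, 9, 4, 3, 7, 5, 4, 3, 2, 3, 4, 5, 7, 3, 4, 9, 8, 5, 9, 7, 8, 3, 7, 4] 56 7 false) (.leaf [8] 8 0 false)))) (.node (.node (.node (.leaf [0] 0 0 false) (.leaf [8, 9, 4, 3, 7, 5, 4, 3, 2, 3, 4, 5, 7, 3, 4, 9, 8, 5, 9, 7, 8, 3, 7, 4, 3, 2, 3, 4, 7, 3, 8, 7, 9] 56 16 false)) (.node (.leaf [4, 3, 4, 3, 4] 34 0 false) (.leaf [3,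 8, 3] 38 1 false))) (.node (.node (.leaf [2] 2 0 false) (.leaf [6] 6 0 false)) (.node (.leaf [3, 2, 3, 4, 1, 4, 3, 2, 3, 4, 1, 4, 3, 2, 3, 4, 1] 62 1 false) (.leaf [1, 9, 5, 4, 3, 2, 3, 4, 5, 9, 1, 9, 5, 4, 3, 2, 3, 4, 5] 60 9 false))))) (.node (.node (.node (.node (.leaf [0] 0 0 false) (.leaf [4, 3, 2, 3, 4, 5, 9, 1, 9, 5, 4, 3, 2, 3, 4, 5, 9, 1, 9] 60 2 false)) (.node (.leaf [2] 2 0 false) (.leaf [7] 7 0 false))) (.node (.node (.leaf [1] 1 0 false) (.leaf [6] 6 0 false)) (.node (.leaf [9, 4, 9] 44 0 false) (.leaf [8, 9, 8, 9, 8] 54 1 false)))) (.node (.node (.node (.leaf [2, 1, 2, 1, 2] 19 0 false) (.leaf [6] 6 0 false)) (.node (.leaf [4, 9, 8, 5, 9, 7, 8, 3, 7, 4, 3, 2, 3, 4, 7, 3, 8, 7, 9, 5, 8, 9, 4, 3, 7, 5, 4, 3, 2, 3, 4, 5, 7] 56 30 false) (.leaf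 [7, 9, 5, 8, 9, 4, 3, 7, 5, 4, 3, 2, 3, 4, 5, 7, 3, 4, 9, 8, 5, 9, 7, 8, 3, 7, 4, 3, 2, 3, 4, 7, 3] 56 13 false))) (.node (.node (.leaf [0, 2, 0] 11 1 false) (.leaf [4, 7, 4] 42 1 false)) (.node (.leaf [5, 6, 9, 1, 9, 6, 5, 4, 5, 6, 9, 1, 9, 6, 5, 4, 5, 6, 9, 1, 9, 6, 5] 57 4 false) (.leaf [6, 5, 4, 5, 6, 9, 5, 8, 7, 3, 4, 9, 8, 5, 9, 7, 6, 5, 4, 3, 4, 5, 6, 7, 9, 5, 8, 9, 4, 3, 7, 8, 5] 55 5 false))))))) (.node r1 (.node (.node (.node (.node (.node (.leaf [8, 0, 8] 17 0 false) (.leaf [3, 5, 3] 35 1 false)) (.node (.leaf [2] 2 0 false) (.leaf [6, 5, 4, 3, 4, 5, 6, 7, 9, 5, 8, 9, 4, 3, 7, 8, 5, 9, 6, 5, 4, 5, 6, 9, 5, 8, 7, 3, 4, 9, 8, 5, 9] 55 21 false))) (.node (.node (.leaf [9, 5, 4, 5, 9, 1, 9, 5, 4, 5, 9, 1, 9, 5, 4, 5, 9] 61 0 false) (.leaf [7,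 9, 5, 8, 9, 4, 3, 7, 8, 5, 9, 6, 5, 4, 5, 6, 9, 5, 8, 7, 3, 4, 9, 8, 5, 9, 7, 6, 5, 4, 3, 4, 5] 55 28 false)) (.node (.leaf [7, 8, 5, 9, 6, 5, 4, 5, 6, 9, 5, 8, 7, 3, 4, 9, 8, 5, 9, 7, 6, 5, 4, 3, 4, 5, 6, 7, 9, 5, 8, 9, 4] 55 1 false) (.leaf [8] 8 0 false)))) (.node (.node (.node (.leaf [0] 0 0 false) (.leaf [9, 6, 5, 4, 5, 6, 9, 5, 8, 7, 3, 4, 9, 8, 5, 9, 7, 6, 5, 4, 3, 4, 5, 6, 7, 9, 5, 8, 9, 4, 3, 7, 8] 55 4 false)) (.node (.leaf [6, 3, 6] 36 0 false) (.leaf [7, 8, 7, 8, 7] 52 1 false))) (.node (.node (.leaf [9, 2, 9] 33 0 false) (.leaf [7] 7 0 false)) (.node (.leaf [1, 4, 3, 2, 3, 4, 1, 4, 3, 2, 3, 4, 1, 4, 3, 2, 3] 62 5 false) (.leaf [1, 9, 5, 4, 5, 9, 1, 9, 5, 4, 5, 9, 1, 9, 5, 4, 5] 61 5 false))))) (.node (.node (.node (.node (.leaf [0] 0 0 false)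 (.leaf [9, 7, 8, 3, 7, 4, 3, 2, 3, 4, 7, 3, 8, 7, 9, 5, 8, 9, 4, 3, 7, 5, 4, 3, 2, 3, 4, 5, 7, 3, 4, 9, 8] 56 0 false)) (.node (.leaf [3] 3 0 false) (.leaf [7] 7 0 false))) (.node (.node (.leaf [1] 1 0 false) (.leaf [6] 6 0 false)) (.node (.leaf [7, 4, 7] 42 0 false) (.leaf [4, 9, 4] 44 1 false)))) (.node (.node (.node (.leaf [3, 1, 3] 20 0 false) (.leaf [0, 6, 0] 15 1 false)) (.node (.leaf [4, 5, 7, 8, 1, 8, 7, 5, 4, 3, 4, 5, 7, 8, 1, 8, 7, 5, 4] 59 5 false) (.leaf [5, 9, 7, 6, 5, 4, 3, 4, 5, 6, 7, 9, 5, 8, 9, 4, 3, 7, 8, 5, 9, 6, 5, 4, 5, 6, 9, 5, 8, 7, 3, 4, 9] 55 18 false))) (.node (.node (.leaf [3, 4, 5, 9, 1, 9, 5, 4, 3, 2, 3, 4, 5, 9, 1, 9, 5, 4, 3] 60 5 false) (.leaf [8, 7, 8, 7, 8] 52 0 false)) (.node (.leaf [4] 4 0 false) (.leaf [1, 9, 8, 7,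 3, 7, 8, 9, 1, 9, 8, 7, 3, 7, 8, 9, 1, 9, 8, 7, 3, 7, 8] 58 7 false)))))))) (.node (.node r2 (.node (.node (.node (.node (.node (.leaf [5, 0, 5] 14 0 false) (.leaf [2, 5, 2] 29 1 false)) (.node (.leaf [2] 2 0 false) (.leaf [9, 5, 8, 9, 4, 3, 7, 8, 5, 9, 6, 5, 4, 5, 6, 9, 5, 8, 7, 3, 4, 9, 8, 5, 9, 7, 6, 5, 4, 3, 4, 5, 6] 55 29 false))) (.node (.node (.leaf [9, 6, 5, 4, 5, 6, 9, 1, 9, 6, 5, 4, 5, 6, 9, 1, 9, 6, 5, 4, 5, 6, 9] 57 0 false) (.leaf [5, 6, 5, 6, 5] 45 1 false)) (.node (.leaf [7, 5, 4, 3, 2, 3, 4, 5, 7, 3, 4, 9, 8, 5, 9, 7, 8, 3, 7, 4, 3, 2, 3, 4, 7, 3, 8, 7, 9, 5, 8, 9, 4] 56 20 false) (.leaf [8] 8 0 false)))) (.node (.node (.node (.leaf [0] 0 0 false) (.leaf [8, 9, 4, 3, 7, 8, 5, 9, 6, 5, 4, 5, 6, 9, 5, 8, 7, 3, 4, 9, 8, 5, 9, 7, 6, 5, 4,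 3, 4, 5, 6, 7, 9] 55 31 false)) (.node (.leaf [7, 3, 7, 3, 7] 37 0 false) (.leaf [4, 8, 4] 43 1 false))) (.node (.node (.leaf [3, 2, 3, 2, 3] 27 0 false) (.leaf [6] 6 0 false)) (.node (.leaf [7, 3, 8, 7, 9, 5, 8, 9, 4, 3, 7, 5, 4, 3, 2, 3, 4, 5, 7, 3, 4, 9, 8, 5, 9, 7, 8, 3, 7, 4, 3, 2, 3] 56 10 false) (.leaf [5, 8, 9, 4, 3, 7, 5, 4, 3, 2, 3, 4, 5, 7, 3, 4, 9, 8, 5, 9, 7, 8, 3, 7, 4, 3, 2, 3, 4, 7, 3, 8, 7] 56 15 false))))) (.node (.node (.node (.node (.leaf [0] 0 0 false) (.leaf [7, 3, 4, 9, 8, 5, 9, 7, 8, 3, 7, 4, 3, 2, 3, 4, 7, 3, 8, 7, 9, 5, 8, 9, 4, 3, 7, 5, 4, 3, 2, 3, 4] 56 28 false)) (.node (.leaf [2] 2 0 false) (.leaf [7] 7 0 false))) (.node (.node (.leaf [1] 1 0 false) (.leaf [6] 6 0 false)) (.node (.leaf [8, 4, 8] 43 0 false) (.leaf [1, 9,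 1, 9, 1] 26 1 false)))) (.node (.node (.node (.leaf [9, 1, 9, 1, 9] 26 0 false) (.leaf [1, 6, 1] 23 1 false)) (.node (.leaf [2, 3, 4, 1, 4, 3, 2, 3, 4, 1, 4, 3, 2, 3, 4, 1, 4] 62 2 false) (.leaf [1, 8, 7, 5, 4, 3, 4, 5, 7, 8, 1, 8, 7, 5, 4, 3, 4, 5, 7] 59 9 false))) (.node (.node (.leaf [6, 2, 6] 30 0 false) (.leaf [6, 7, 6] 49 1 false)) (.node (.leaf [5, 6, 9, 5, 8, 7, 3, 4, 9, 8, 5, 9, 7, 6, 5, 4, 3, 4, 5, 6, 7, 9, 5, 8, 9, 4, 3, 7, 8, 5, 9, 6, 5] 55 8 false) (.leaf [5, 8, 9, 4, 3, 7, 8, 5, 9, 6, 5, 4, 5, 6, 9, 5, 8, 7, 3, 4, 9, 8, 5, 9, 7, 6, 5, 4, 3, 4, 5, 6, 7] 55 30 false))))))) (.node r3 (.node (.node (.node (.node (.node (.leaf [4, 0, 4] 13 0 false) (.leaf [7, 5, 7] 46 0 false)) (.node (.leaf [2] 2 0 false) (.leaf [8, 3, 7, 4, 3, 2, 3, 4, 7,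 3, 8, 7, 9, 5, 8, 9, 4, 3, 7, 5, 4, 3, 2, 3, 4, 5, 7, 3, 4, 9, 8, 5, 9] 56 2 false))) (.node (.node (.leaf [9, 8, 7, 3, 7, 8, 9, 1, 9, 8, 7, 3, 7, 8, 9, 1, 9, 8, 7, 3, 7, 8, 9] 58 0 false) (.leaf [5, 4, 3, 4, 5, 6, 7, 9, 5, 8, 9, 4, 3, 7, 8, 5, 9, 6, 5, 4, 5, 6, 9, 5, 8, 7, 3, 4, 9, 8, 5, 9, 7] 55 22 false)) (.node (.leaf [8, 7, 9, 5, 8, 9, 4, 3, 7, 5, 4, 3, 2, 3, 4, 5, 7, 3, 4, 9, 8, 5, 9, 7, 8, 3, 7, 4, 3, 2, 3, 4, 7] 56 12 false) (.leaf [8] 8 0 false)))) (.node (.node (.node (.leaf [0] 0 0 false) (.leaf [4, 5, 6, 9, 1, 9, 6, 5, 4, 5, 6, 9, 1, 9, 6, 5, 4, 5, 6, 9, 1, 9, 6] 57 3 false)) (.node (.leaf [2, 3, 2, 3, 2] 27 1 false) (.leaf [5, 8, 5] 47 1 false))) (.node (.node (.leaf [1, 2, 1, 2, 1] 19 1 false) (.leaf [1, 7, 1] 24 1 false)) (.node (.leaf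 [5, 9, 1, 9, 5, 4, 3, 2, 3, 4, 5, 9, 1, 9, 5, 4, 3, 2, 3] 60 7 false) (.leaf [5, 8, 7, 3, 4, 9, 8, 5, 9, 7, 6, 5, 4, 3, 4, 5, 6, 7, 9, 5, 8, 9, 4, 3, 7, 8, 5, 9, 6, 5, 4, 5, 6] 55 11 false))))) (.node (.node (.node (.node (.leaf [0] 0 0 false) (.leaf [4, 5, 6, 9, 5, 8, 7, 3, 4, 9, 8, 5, 9, 7, 6, 5, 4, 3, 4, 5, 6, 7, 9, 5, 8, 9, 4, 3, 7, 8, 5, 9, 6] 55 7 false)) (.node (.leaf [1, 3, 1] 20 1 false) (.leaf [7] 7 0 false))) (.node (.node (.leaf [1] 1 0 false) (.leaf [6] 6 0 false)) (.node (.leaf [5, 4, 5, 4, 5] 40 0 false) (.leaf [6, 9, 6] 51 1 false)))) (.node (.node (.node (.leaf [5, 1, 5] 22 0 false) (.leaf [2, 6, 2] 30 1 false)) (.node (.leaf [4, 5, 7, 3, 4, 9, 8, 5, 9, 7, 8, 3, 7, 4, 3, 2, 3, 4, 7, 3, 8, 7, 9, 5, 8, 9, 4, 3, 7, 5, 4, 3, 2] 56 26 false)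 (.leaf [7, 3, 7, 8, 9, 1, 9, 8, 7, 3, 7, 8, 9, 1, 9, 8, 7, 3, 7, 8, 9, 1, 9] 58 2 false))) (.node (.node (.leaf [3, 4, 7, 3, 8, 7, 9, 5, 8, 9, 4, 3, 7, 5, 4, 3, 2, 3, 4, 5, 7, 3, 4, 9, 8, 5, 9, 7, 8, 3, 7, 4, 3] 56 8 false) (.leaf [3, 7, 3, 7, 3] 37 1 false)) (.node (.leaf [4] 4 0 false) (.leaf [4, 3, 7, 5, 4, 3, 2, 3, 4, 5, 7, 3, 4, 9, 8, 5, 9, 7, 8, 3, 7, 4, 3, 2, 3, 4, 7, 3, 8, 7, 9, 5, 8] 56 18 false)))))))))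
def hl : List ℕ := [0, 2, 3, 4, 5, 6, 7, 8, 9]
def B : List (List ℕ) := [[0, 0], [1, 1], [2, 2], [3, 3], [4, 4], [5, 5], [6, 6], [7, 7], [8, 8], [9, 9], [0, 1, 0, 1, 0, 1], [0, 2, 0, 2], [0, 3, 0, 3], [0, 4, 0, 4], [0, 5, 0, 5], [0, 6, 0, 6], [0, 7, 0, 7], [0, 8, 0, 8], [0, 9, 0, 9], [1, 2, 1, 2, 1, 2], [1, 3, 1, 3], [1, 4, 1, 4], [1, 5, 1, 5], [1, 6, 1, 6], [1, 7, 1, 7], [1, 8, 1, 8], [1, 9, 1, 9, 1, 9], [2, 3, 2, 3, 2, 3], [2, 4, 2, 4], [2, 5, 2, 5], [2, 6, 2, 6], [2, 7, 2, 7], [2, 8, 2, 8], [2, 9, 2, 9], [3, 4, 3, 4, 3, 4], [3, 5, 3, 5], [3, 6, 3, 6], [3, 7, 3, 7, 3, 7], [3, 8, 3, 8], [3, 9, 3, 9], [4, 5, 4, 5, 4, 5], [4, 6, 4, 6], [4, 7, 4, 7], [4, 8, 4, 8], [4, 9, 4, 9], [5, 6, 5, 6, 5, 6], [5, 7, 5, 7], [5, 8, 5, 8], [5, 9, 5, 9, 5, 9], [6, 7,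 6, 7], [6, 8, 6, 8], [6, 9, 6, 9], [7, 8, 7, 8, 7, 8], [7, 9, 7, 9], [8, 9, 8, 9, 8, 9], [4, 3, 7, 8, 5, 9, 6, 5, 4, 5, 6, 9, 5, 8, 7, 3, 4, 9, 8, 5, 9, 7, 6, 5, 4, 3, 4, 5, 6, 7, 9, 5, 8, 9], [5, 9, 7, 8, 3, 7, 4, 3, 2, 3, 4, 7, 3, 8, 7, 9, 5, 8, 9, 4, 3, 7, 5, 4, 3, 2, 3, 4, 5, 7, 3, 4, 9, 8], [1, 9, 6, 5, 4, 5, 6, 9, 1, 9, 6, 5, 4, 5, 6, 9, 1, 9, 6, 5, 4, 5, 6, 9], [1, 9, 8, 7, 3, 7, 8, 9, 1, 9, 8, 7, 3, 7, 8, 9, 1, 9, 8, 7, 3, 7, 8, 9], [1, 8, 7, 5, 4, 3, 4, 5, 7, 8, 1, 8, 7, 5, 4, 3, 4, 5, 7, 8], [1, 9, 5, 4, 3, 2, 3, 4, 5, 9, 1, 9, 5, 4, 3, 2, 3, 4, 5, 9], [1, 9, 5, 4, 5, 9, 1, 9, 5, 4, 5, 9, 1, 9, 5, 4, 5, 9], [1, 4, 3, 2, 3, 4, 1, 4, 3, 2, 3, 4, 1, 4, 3, 2, 3, 4]]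
def subs : List (List ℕ) := [[0], [2], [3], [4], [5], [6], [7], [8], [9]]
def ex : List (List ℕ) := []
def inv (x : ℕ) : ℕ := [0, 1, 2, 3, 4, 5, 6, 7, 8, 9].getD x 0
noncomputable def rS : ℕ → ℕ := rowOf tS (nat_lit 6) (nat_lit 63) (nat_lit 253) (nat_lit 14474011154664524427946373126085988481658748083205070504932198000989141204991)
noncomputable def rJ : ℕ → ℕ := rowOf tJ (nat_lit 6) (nat_lit 63) (nat_lit 108) (nat_lit 324518553658426726783156020576255)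
noncomputable def C : TC.Cfg where
  S := look rS (nat_lit 23) (nat_lit 8388607)
  J := look rJ (nat_lit 9) (nat_lit 511)
  Q := lookQ tQ (nat_lit 6) (nat_lit 23) (nat_lit 8388607)
  R := tR.get
  hl := fun x => hl.contains x
  n := (nat_lit 3510)
  M := (nat_lit 22762)
  top := (nat_lit 4302018)
  nl := (nat_lit 10)
  need := (nat_lit 10)
  nr := (nat_lit 26)
end H6.TCU22
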